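import Groth.Prelude.Def_StCurv2
import Mathlib.AlgebraicGeometry.Morphisms.Smooth
import Mathlib.AlgebraicGeometry.Morphisms.QuasiFinite
import Mathlib.AlgebraicGeometry.AlgClosed.Basic

/-!
# Geometric fibres of a scheme family and finiteness of loci over a field
-/

set_option autoImplicit false
set_option linter.style.haveILetI false
universe u

open CategoryTheory CategoryTheory.Limits AlgebraicGeometry Topology

namespace CurvFieldLib

variable {S : Scheme.{u}} {n : ℕ}

/-- Geometric fibres of the sheaf family of a scheme family are the geometric fibres of schemes. -/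
theorem geomFib_toSpFam_iff (A : CurvSt.PtFamObj S n)
    (P : ∀ (Ω : Type u) [Field Ω] [IsAlgClosed Ω] (X' : Scheme.{u}), (X' ⟶ Spec (CommRingCat.of Ω)) → Prop) :
    CurvSt.GeomFib (fun Ω _ _ X' q _ => P Ω X' q) ((CurvSt.toSpFam S n).obj A) ↔
      ∀ (Ω : Type u) [Field Ω] [IsAlgClosed Ω] (t : Spec (CommRingCat.of Ω) ⟶ A.base.left) (X' : Scheme.{u})
        (q : X' ⟶ Spec (CommRingCat.of Ω)) (i : X' ⟶ A.C), IsPullback i q A.f t → P Ω X' q := by
  constructor
  · intro H Ω _ _ t X' q i sq
    let i' : Over.mk ((q ≫ t) ≫ A.base.hom) ⟶ A.totOver := Over.homMk i (by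
      show i ≫ A.f ≫ A.base.hom = (q ≫ t) ≫ A.base.hom
      rw [← Category.assoc, sq.w])
    exact H Ω t X' q ((AlgSp.yon S).map i') ((IsPullback.of_map (Over.forget S)
      (Over.OverMorphism.ext sq.w) sq : IsPullback i'
        (((CurvSt.toSpFam S n).obj A).fibHom t q) A.fOver (((CurvSt.toSpFam S n).obj A).ptHom t)).map (AlgSp.yon S))
  · intro H Ω _ _ t X' q i hP
    obtain ⟨i', rfl⟩ := (AlgSp.yon S).map_surjective i
    have e : i' ≫ A.fOver = ((CurvSt.toSpFam S n).obj A).fibHom t q ≫ ((CurvSt.toSpFam S n).obj A).ptHom t :=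
      (AlgSp.yon S).map_injective (((AlgSp.yon S).map_comp _ _).trans (hP.w.trans ((AlgSp.yon S).map_comp _ _).symm))
    exact H Ω t X' q i'.left ((IsPullback.of_map (AlgSp.yon S) e hP).map (Over.forget S))

variable {k : Type u} [Field k] {X : Scheme.{u}}

/-- The locus where a morphism is smooth nearby is its smooth locus. -/
theorem setOf_exists_smooth_eq {Y : Scheme.{u}} (p : X ⟶ Y) [LocallyOfFinitePresentation p] :
    {x : X | ∃ U : X.Opens, x ∈ U ∧ Smooth (U.ι ≫ p)} = (p.smoothLocus : Set X) := by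
  ext x
  constructor
  · rintro ⟨U, hxU, hU⟩
    have h : (⟨x, hxU⟩ : U) ∈ U.ι ⁻¹ᵁ p.smoothLocus := by
      rw [Scheme.Hom.preimage_smoothLocus_eq, Scheme.Hom.smoothLocus_eq_top]; trivial
    exact h
  · intro hx
    refine ⟨p.smoothLocus, hx, Scheme.Hom.smoothLocus_eq_top_iff.1 ?_⟩
    rw [← Scheme.Hom.preimage_smoothLocus_eq]
    exact Scheme.Opens.ι_preimage_self _

theorem isClosed_singleton_of_mem_finite {Y : Type u} [TopologicalSpace Y] [JacobsonSpace Y] {Z : Set Y}
    (hZ : IsClosed Z) (hfin : Z.Finite) {x : Y} (hx : x ∈ Z) : IsClosed ({x} : Set Y) := by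
  have h1 : closure ({x} : Set Y) ⊆ Z := hZ.closure_subset_iff.2 (Set.singleton_subset_iff.2 hx)
  have hf : (closure ({x} : Set Y) ∩ closedPoints Y).Finite :=
    (hfin.subset h1).subset Set.inter_subset_left
  have hcl : IsClosed (closure ({x} : Set Y) ∩ closedPoints Y) := by
    rw [← Set.biUnion_of_singleton (closure ({x} : Set Y) ∩ closedPoints Y)]
    exact hf.isClosed_biUnion fun z hz => hz.2
  have h2 := JacobsonSpace.closure_inter_closedPoints (isClosed_closure (s := ({x} : Set Y)))
  rw [hcl.closure_eq] at h2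
  exact (h2.symm ▸ subset_closure (Set.mem_singleton x) :
    x ∈ closure ({x} : Set Y) ∩ closedPoints Y).2

/-- A closed point has finitely many preimages in an extension of the ground field. -/
theorem finite_preimage_of_isClosed (p : X ⟶ Spec (CommRingCat.of k)) [LocallyOfFiniteType p] {X' : Scheme.{u}}
    {Ω : Type u} [Field Ω] {q : X' ⟶ Spec (CommRingCat.of Ω)} {i : X' ⟶ X}
    {t : Spec (CommRingCat.of Ω) ⟶ Spec (CommRingCat.of k)} (sq : IsPullback i q p t) {x : X}
    (hx : IsClosed ({x} : Set X)) : (i.base ⁻¹' {x}).Finite := by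
  let j := X.fromSpecResidueField x
  haveI : IsClosedImmersion j := isClosed_singleton_iff_isClosedImmersion.1 hx
  haveI : IsFinite (j ≫ p) := by
    rw [isFinite_iff_locallyOfFiniteType_of_jacobsonSpace]
    infer_instance
  haveI : IsFinite (pullback.snd j i ≫ q) :=
    MorphismProperty.of_isPullback (P := @IsFinite)
      ((IsPullback.of_hasPullback j i).paste_vert sq) ‹_›
  have hfin : (Set.univ : Set ↥(pullback j i)).Finite := by
    have := (pullback.snd j i ≫ q).finite_preimage_singleton (IsLocalRing.closedPoint Ω)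
    convert this using 1
    exact (Set.preimage_eq_univ_iff.2 (fun z _ => Subsingleton.elim (α := PrimeSpectrum Ω) _ _)).symm
  refine (hfin.image (pullback.snd j i).base).subset fun z hz => ?_
  obtain ⟨w, -, hw⟩ := Scheme.Pullback.exists_preimage_pullback (f := j) (g := i)
    (IsLocalRing.closedPoint (X.residueField x)) z ((X.fromSpecResidueField_apply x _).trans (Eq.symm hz))
  exact ⟨w, trivial, hw⟩

end CurvFieldLib
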