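import Groth.Agent.AlgSpLib.LocP
import Groth.Agent.KoszAtLib.Basic
import Groth.Agent.CMFlatLib.BaseChangeScheme
import Groth.Agent.GorLib.Scheme
import Groth.Agent.EtStalkLib.Basic
import Groth.Agent.CommAlgDim.CM
import Groth.Agent.S0342
import Groth.Prelude.Def_AlgSpMor6

/-!
# Etale charts of a scheme over a field
-/

set_option autoImplicit false
set_option linter.style.haveILetI false
universe u

open CategoryTheory CategoryTheory.Limits AlgebraicGeometry IsLocalRing

namespace CurvFieldLib

variable {k : Type u} [Field k]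

/-- An etale chart of a morphism to the spectrum of a field. -/
theorem chart_data {S : Scheme.{u}} (t : Spec (CommRingCat.of k) ⟶ S) {X : Scheme.{u}} (p : X ⟶ Spec (CommRingCat.of k))
    {U V : Over S} {a : (AlgSp.yon S).obj U ⟶ (AlgSp.yon S).obj (Over.mk (p ≫ t))}
    {b : (AlgSp.yon S).obj V ⟶ (AlgSp.yon S).obj (Over.mk t)} {h : U ⟶ V}
    (ha : AlgSp.RepWith @Etale a) (hb : AlgSp.RepWith @Etale b)
    (e : a ≫ (AlgSp.yon S).map (Over.homMk p rfl : Over.mk (p ≫ t) ⟶ Over.mk t) = (AlgSp.yon S).map h ≫ b) :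
    ∃ (a₀ : U.left ⟶ X) (b₀ : V.left ⟶ Spec (CommRingCat.of k)), Etale a₀ ∧ Etale b₀ ∧ h.left ≫ b₀ = a₀ ≫ p := by
  obtain ⟨a', rfl⟩ := (AlgSp.yon S).map_surjective a
  obtain ⟨b', rfl⟩ := (AlgSp.yon S).map_surjective b
  rw [← Functor.map_comp, ← Functor.map_comp] at e
  exact ⟨a'.left, b'.left, (AlgSp.repWith_yon_map_iff (P := (@Etale : MorphismProperty Scheme.{u})) a').1 ha,
    (AlgSp.repWith_yon_map_iff (P := (@Etale : MorphismProperty Scheme.{u})) b').1 hb,
    (congrArg CommaMorphism.left ((AlgSp.yon S).map_injective e)).symm⟩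

/-- The local rings of an etale scheme over a field are fields. -/
theorem isField_stalk_of_etale {V : Scheme.{u}} (b : V ⟶ Spec (CommRingCat.of k)) [Etale b] (v : V) :
    IsField (V.presheaf.stalk v) := by
  obtain ⟨-, -, h3, -⟩ := EtStalkLib.stalk_props b v
  rw [IsLocalRing.isField_iff_maximalIdeal_eq, ← h3,
    IsLocalRing.isField_iff_maximalIdeal_eq.1 (CMFlatLib.isField_stalk (b v))]
  exact Ideal.map_bot

theorem cm_of_isField {A : Type u} [CommRing A] [IsLocalRing A] (hA : IsField A) :
    LocCoh.IsCohenMacaulayLocalRing A := by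
  letI := hA.toField
  exact (CMFlatLib.isCohenMacaulayLocalRing_iff_isCM A).2 (CommAlgDim.isCM_of_isRegularLocalRing A)

theorem gorenstein_of_isField {A : Type u} [CommRing A] [IsLocalRing A] (hA : IsField A) :
    LocCoh.IsGorensteinLocalRing A := by
  letI := hA.toField
  exact Groth.Agent.S0342.result A

theorem isField_quotient_maximalIdeal {A : Type u} [CommRing A] [IsLocalRing A] {I : Ideal A}
    (h : I = maximalIdeal A) : IsField (A ⧸ I) := by
  subst h
  exact Ideal.Quotient.maximal_ideal_iff_isField_quotient _ |>.1 inferInstance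

theorem cm_stalk_iff_of_etale {U X : Scheme.{u}} (a : U ⟶ X) [Etale a] [IsLocallyNoetherian X] (u : U) :
    LocCoh.IsCohenMacaulayLocalRing (U.presheaf.stalk u) ↔
      LocCoh.IsCohenMacaulayLocalRing (X.presheaf.stalk (a u)) := by
  haveI := LocallyOfFiniteType.isLocallyNoetherian a
  obtain ⟨h1, h2, h3, -⟩ := EtStalkLib.stalk_props a u
  letI := (a.stalkMap u).hom.toAlgebra
  haveI := h1; haveI := h2
  have hF := isField_quotient_maximalIdeal h3
  rw [CMFlatLib.cm_flat_iff (X.presheaf.stalk (a u)) (U.presheaf.stalk u)]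
  haveI : IsLocalRing (GorLib.Fib (X.presheaf.stalk (a u)) (U.presheaf.stalk u)) :=
    GorLib.isLocalRing_quotient (GorLib.map_maximalIdeal_ne_top _ _)
  exact and_iff_left (cm_of_isField hF)

theorem gorenstein_stalk_iff_of_etale {U X : Scheme.{u}} (a : U ⟶ X) [Etale a] [IsLocallyNoetherian X] (u : U) :
    LocCoh.IsGorensteinLocalRing (U.presheaf.stalk u) ↔
      LocCoh.IsGorensteinLocalRing (X.presheaf.stalk (a u)) := by
  haveI := LocallyOfFiniteType.isLocallyNoetherian a
  obtain ⟨h1, h2, h3, -⟩ := EtStalkLib.stalk_props a u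
  letI := (a.stalkMap u).hom.toAlgebra
  haveI := h1; haveI := h2
  have hF := isField_quotient_maximalIdeal h3
  rw [GorLib.gorenstein_flat_iff (X.presheaf.stalk (a u)) (U.presheaf.stalk u)]
  haveI : IsLocalRing (GorLib.Fib (X.presheaf.stalk (a u)) (U.presheaf.stalk u)) :=
    GorLib.isLocalRing_quotient (GorLib.map_maximalIdeal_ne_top _ _)
  exact and_iff_left (gorenstein_of_isField hF)

variable {U V : Scheme.{u}} (h : U ⟶ V) (u : U)

theorem flat_stalkMap_of_isField (hV : IsField (V.presheaf.stalk (h u))) : (h.stalkMap u).hom.Flat := by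
  letI := hV.toField
  letI := (h.stalkMap u).hom.toAlgebra
  exact RingHom.flat_algebraMap_iff.2 inferInstance

/-- Over a point with field local ring the relative notion is the absolute one. -/
theorem isCMAt_iff_of_isField (hV : IsField (V.presheaf.stalk (h u))) :
    MoreMor.IsCMAt h u ↔ LocCoh.IsCohenMacaulayLocalRing (U.presheaf.stalk u) := by
  rw [CMFlatLib.cm_fibre_stalk_iff, IsLocalRing.isField_iff_maximalIdeal_eq.1 hV, Ideal.map_bot,
    CMFlatLib.isCohenMacaulayLocalRing_congr (RingEquiv.quotientBot (U.presheaf.stalk u))]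
  exact and_iff_right (flat_stalkMap_of_isField h u hV)

/-- Over a point with field local ring the relative notion is the absolute one. -/
theorem isGorensteinAt_iff_of_isField (hV : IsField (V.presheaf.stalk (h u))) :
    Dual3.IsGorensteinAt h u ↔ LocCoh.IsGorensteinLocalRing (U.presheaf.stalk u) := by
  rw [GorLib.isGorensteinAt_iff, IsLocalRing.isField_iff_maximalIdeal_eq.1 hV, Ideal.map_bot]
  exact (and_iff_right (flat_stalkMap_of_isField h u hV)).trans
    (GorLib.gorenstein_congr (RingEquiv.quotientBot (U.presheaf.stalk u)))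

/-- Being lci can be cancelled along an etale morphism of targets. -/
theorem lciMor_cancel_etale {Y : Scheme.{u}} (b : V ⟶ Y) [Etale b] (hl : KoszAtLib.LCIMor (h ≫ b)) :
    KoszAtLib.LCIMor h := by
  let Γh : U ⟶ pullback (h ≫ b) b := pullback.lift (𝟙 U) h (Category.id_comp _)
  haveI : Etale Γh := by
    haveI : Etale (Γh ≫ pullback.fst (h ≫ b) b) := by rw [pullback.lift_fst]; infer_instance
    exact Etale.of_comp Γh (pullback.fst (h ≫ b) b)
  have h2 : KoszAtLib.LCIMor (pullback.snd (h ≫ b) b) :=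
    KoszAtLib.lciMor_baseChange (h ≫ b) b _ _ (IsPullback.of_hasPullback _ _) hl
  have h3 := MorphismProperty.comp_mem _ _ _ (KoszAtLib.lciMor_of_smooth Γh) h2
  rwa [pullback.lift_snd] at h3

end CurvFieldLib
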